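import Groth.Agent.Lib.ProjCoh.Generic
import Groth.Agent.Lib.Snapper.PushEuler
import Groth.Agent.Lib.Euler.Divisor
import Groth.Agent.Lib.CurveRR.Setup
import Mathlib.RingTheory.Artinian.Ring

/-!
# Global functions and connectedness; cohomology of ideal sheaves in low degree
-/

set_option autoImplicit false
set_option backward.isDefEq.respectTransparency false
set_option linter.all false

universe u

open CategoryTheory CategoryTheory.Limits AlgebraicGeometry TopologicalSpace Opposite

noncomputable section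

namespace GrothLib.ConnH0

variable {X : Scheme.{u}}

theorem eq_zero_or_one_of_idempotent [IsReduced X] [ConnectedSpace X] (e : Γ(X, ⊤)) (he : e * e = e) :
    e = 0 ∨ e = 1 := by
  have h0 : ∀ (y : X) (f : Γ(X, ⊤)), y ∈ X.basicOpen f ↔ IsUnit (X.presheaf.germ ⊤ y trivial f) := fun y f =>
    Scheme.mem_basicOpen _ f y trivial
  have hy : ∀ y : X, X.presheaf.germ ⊤ y trivial e = 0 ∨ X.presheaf.germ ⊤ y trivial e = 1 := fun y => by
    have h := congrArg (X.presheaf.germ ⊤ y trivial) he
    rw [map_mul] at h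
    rcases IsLocalRing.isUnit_or_isUnit_one_sub_self (X.presheaf.germ ⊤ y trivial e) with hu | hu
    · exact Or.inr (IsUnit.mul_left_cancel hu (h.trans (mul_one _).symm))
    · refine Or.inl ((IsUnit.mul_left_eq_zero hu).1 ?_)
      rw [mul_sub, mul_one, h, sub_self]
  have hz : (X.basicOpen e : Set X)ᶜ = (X.basicOpen (1 - e) : Set X) := by
    ext y
    simp only [Set.mem_compl_iff, SetLike.mem_coe, h0, map_sub, map_one]
    rcases hy y with h | h <;> simp [h]
  have hclop : IsClopen (X.basicOpen e : Set X) :=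
    ⟨by rw [← isOpen_compl_iff, hz]; exact (X.basicOpen (1 - e)).2, (X.basicOpen e).2⟩
  rcases isClopen_iff.mp hclop with h | h
  · exact Or.inl ((basicOpen_eq_bot_iff e).mp (TopologicalSpace.Opens.ext h))
  · refine Or.inr (sub_eq_zero.mp ((basicOpen_eq_bot_iff (1 - e)).mp (TopologicalSpace.Opens.ext ?_))).symm
    rw [← hz, h, Set.compl_univ]; rfl

variable (k : Type u) [Field k] [X.Over (Spec (CommRingCat.of k))]

/-- Global functions on a connected reduced proper scheme over an algebraically closed field are constants. -/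
theorem finrank_H0_eq_one [IsAlgClosed k] [IsProper (X ↘ Spec (CommRingCat.of k))] [IsReduced X] [ConnectedSpace X] :
    Module.finrank k (Coh.HH X (Coh.structureModule X) 0) = 1 := by
  letI : Algebra k Γ(X, ⊤) := (Coh.toGlobal (X ↘ Spec (CommRingCat.of k))).toAlgebra
  let e : Coh.HH X (Coh.structureModule X) 0 ≃ₗ[k] Γ(X, ⊤) :=
    { ProjCoh.H0top (Coh.structureModule X) with
      map_smul' := fun a h => (ProjCoh.H0top_smul (Coh.structureModule X) a h).trans
        (Algebra.smul_def (R := k) (A := Γ(X, ⊤)) a (ProjCoh.H0top (Coh.structureModule X) h)).symm }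
  haveI := Euler.finiteDimensional_HH k (Euler.isCoh_of_isInvertible (Euler.isInvertible_structure (X := X))) 0
  haveI : Module.Finite k Γ(X, ⊤) := Module.Finite.equiv e
  haveI : Nonempty (⊤ : X.Opens) := ⟨⟨Classical.arbitrary X, trivial⟩⟩
  haveI : IsArtinianRing Γ(X, ⊤) := IsArtinianRing.of_finite k _
  haveI : Nontrivial Γ(X, ⊤) := inferInstance
  haveI : Subsingleton (MaximalSpectrum Γ(X, ⊤)) := by
    classical
    refine ⟨fun I I' => ?_⟩
    by_contra hne
    let E := IsArtinianRing.equivPi Γ(X, ⊤)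
    let f : ∀ J : MaximalSpectrum Γ(X, ⊤), Γ(X, ⊤) ⧸ J.asIdeal := Pi.single I 1
    have hf : f * f = f := by
      funext J
      by_cases hJ : J = I
      · subst hJ; simp [f]
      · simp [f, hJ]
    rcases eq_zero_or_one_of_idempotent (X := X) (E.symm f) (by rw [← map_mul, hf]) with h | h
    · rw [map_eq_zero_iff _ E.symm.injective] at h
      have := congrFun h I
      simp [f] at this
    · rw [← map_one E.symm, E.symm.injective.eq_iff] at h
      have := congrFun h I'
      simp [f, Ne.symm hne] at this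
  haveI : IsDomain Γ(X, ⊤) := by
    obtain ⟨I₀, hI₀⟩ := Ideal.exists_maximal Γ(X, ⊤)
    letI : Unique (MaximalSpectrum Γ(X, ⊤)) := uniqueOfSubsingleton ⟨I₀, hI₀⟩
    let E := (IsArtinianRing.equivPi Γ(X, ⊤)).toRingEquiv.trans
      (RingEquiv.piUnique fun J : MaximalSpectrum Γ(X, ⊤) => Γ(X, ⊤) ⧸ J.asIdeal)
    exact MulEquiv.isDomain _ E.toMulEquiv
  rw [e.finrank_eq]
  exact finrank_eq_one (1 : Γ(X, ⊤)) one_ne_zero fun w => by
    obtain ⟨c, hc⟩ := IsAlgClosed.algebraMap_bijective_of_isIntegral (k := k) (K := Γ(X, ⊤)) |>.2 w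
    exact ⟨c, (Algebra.algebraMap_eq_smul_one c).symm.trans hc⟩

/-- A nonempty scheme with at most one-dimensional global functions is connected. -/
theorem connectedSpace_of_finrank_le [Nonempty X] [Module.Finite k (Coh.HH X (Coh.structureModule X) 0)]
    (h0 : Module.finrank k (Coh.HH X (Coh.structureModule X) 0) ≤ 1) : ConnectedSpace X := by
  classical
  letI : Algebra k Γ(X, ⊤) := (Coh.toGlobal (X ↘ Spec (CommRingCat.of k))).toAlgebra
  let e : Coh.HH X (Coh.structureModule X) 0 ≃ₗ[k] Γ(X, ⊤) :=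
    { ProjCoh.H0top (Coh.structureModule X) with
      map_smul' := fun a h => (ProjCoh.H0top_smul (Coh.structureModule X) a h).trans
        (Algebra.smul_def (R := k) (A := Γ(X, ⊤)) a (ProjCoh.H0top (Coh.structureModule X) h)).symm }
  haveI : Module.Finite k Γ(X, ⊤) := Module.Finite.equiv e
  haveI : Nonempty (⊤ : X.Opens) := ⟨⟨Classical.arbitrary X, trivial⟩⟩
  haveI : Nontrivial Γ(X, ⊤) := inferInstance
  rw [e.finrank_eq] at h0
  have hsc : ∀ t : Γ(X, ⊤), ∃ c : k, algebraMap k Γ(X, ⊤) c = t := fun t => by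
    have h1 : Module.finrank k Γ(X, ⊤) = 1 := le_antisymm h0 Module.finrank_pos
    obtain ⟨c, hc⟩ := (finrank_eq_one_iff_of_nonzero' (1 : Γ(X, ⊤)) one_ne_zero).1 h1 t
    exact ⟨c, by rw [Algebra.algebraMap_eq_smul_one, hc]⟩
  haveI : PreconnectedSpace X := by
    refine preconnectedSpace_of_forall_constant fun f hf => ?_
    let U : ULift.{u} Bool → X.Opens := fun b => ⟨f ⁻¹' {b.down}, (isOpen_discrete _).preimage hf⟩
    let sf : ∀ b, Γ(X, U b) := fun b => if b.down then 1 else 0
    have hc : TopCat.Presheaf.IsCompatible X.presheaf U sf := by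
      intro a b
      by_cases hab : a = b
      · subst hab; rfl
      · refine TopCat.Presheaf.section_ext (C := CommRingCat.{u}) (X := X.carrier) X.sheaf _ _ _ fun z hz => ?_
        exact absurd (ULift.ext _ _ ((show f z = a.down from hz.1).symm.trans hz.2)) hab
    obtain ⟨t, ht, -⟩ := TopCat.Sheaf.existsUnique_gluing' X.sheaf U ⊤ (fun b => homOfLE le_top)
      (fun x _ => Opens.mem_iSup.2 ⟨⟨f x⟩, rfl⟩) sf hc
    obtain ⟨c, rfl⟩ := hsc t
    have hval : ∀ x : X, (X.presheaf.germ ⊤ x trivial) (algebraMap k Γ(X, ⊤) c) = if f x then 1 else 0 := fun x => by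
      have h1 := congrArg (X.presheaf.germ (U ⟨f x⟩) x rfl) (ht ⟨f x⟩)
      refine ((X.presheaf.germ_res_apply _ _ _ _).symm.trans h1).trans ?_
      show (X.presheaf.germ (U ⟨f x⟩) x rfl) (if f x then 1 else 0) = _
      split <;> simp
    intro x y
    have hx := hval x
    have hy := hval y
    by_cases hc0 : c = 0
    · rw [hc0, map_zero, map_zero] at hx hy
      cases hfx : f x <;> cases hfy : f y <;> simp_all
    · have hu : IsUnit (algebraMap k Γ(X, ⊤) c) := (IsUnit.mk0 c hc0).map _
      have hux := (hu.map (X.presheaf.germ ⊤ x trivial).hom).ne_zero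
      have huy := (hu.map (X.presheaf.germ ⊤ y trivial).hom).ne_zero
      cases hfx : f x <;> cases hfy : f y <;> simp_all
  exact ⟨inferInstance⟩

/-- The sequence of an ideal. -/
theorem shortExact_ideal (D : X.IdealSheafData) :
    (ShortComplex.mk (ClSub.idealModι D) (ClSub.toSubscheme D) (kernel.condition _)).ShortExact :=
  haveI := Euler.epi_toSubscheme D
  haveI : Mono (ClSub.idealModι D) := inferInstanceAs (Mono (kernel.ι _))
  { exact := ShortComplex.exact_of_f_is_kernel _ (kernelIsKernel (ClSub.toSubscheme D)) }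

variable [IsProper (X ↘ Spec (CommRingCat.of k))]

/-- Global functions of a closed subscheme are the sections of its quotient module. -/
theorem nonempty_H0_quotMod (D : X.IdealSheafData) [D.subscheme.Over (Spec (CommRingCat.of k))]
    (hD : D.subschemeι ≫ X ↘ Spec (CommRingCat.of k) = D.subscheme ↘ Spec (CommRingCat.of k)) (n : ℕ) :
    Nonempty (Coh.HH D.subscheme (Coh.structureModule D.subscheme) n ≃ₗ[k] Coh.HH X (ClSub.quotMod D) n) := by
  haveI : (Coh.structureModule D.subscheme).IsQuasicoherent :=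
    Euler.isQuasicoherent_of_isFinLocFree (Euler.isFinLocFree_of_isInvertible Euler.isInvertible_structure)
  exact Snapper.nonempty_HH_linearEquiv_pushforward (A := k) D.subschemeι hD _ n

/-- When `H¹(I_D) = 0` and functions on `X` are constants, functions on `D` are at most constants. -/
theorem finrank_H0_le_of_h1 (h0 : Module.finrank k (Coh.HH X (Coh.structureModule X) 0) ≤ 1)
    (D : X.IdealSheafData) (h1 : Subsingleton (Coh.HH X (ClSub.idealMod D) 1)) :
    Module.finrank k (Coh.HH X (ClSub.quotMod D) 0) ≤ 1 := by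
  haveI := Euler.finiteDimensional_HH k (Euler.isCoh_of_isInvertible (Euler.isInvertible_structure (X := X))) 0
  have hsurj : Function.Surjective (Cohom.hhMap k (ClSub.toSubscheme D) 0) := fun z =>
    (Cohom.exact₃ (A := k) (shortExact_ideal D) 0 z).1 (h1.elim _ _)
  exact (LinearMap.finrank_le_finrank_of_surjective (f := Cohom.hhMap k (ClSub.toSubscheme D) 0) hsurj).trans h0

/-- When `H¹(O_X) = 0` and functions on the nonempty `D` are constants, `H¹(I_D) = 0`. -/
theorem subsingleton_h1_ideal (hX : Subsingleton (Coh.HH X (Coh.structureModule X) 1))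
    (D : X.IdealSheafData) [Nonempty D.subscheme] [Module.Finite k (Coh.HH X (ClSub.quotMod D) 0)]
    (hD : Module.finrank k (Coh.HH X (ClSub.quotMod D) 0) ≤ 1) :
    Subsingleton (Coh.HH X (ClSub.idealMod D) 1) := by
  obtain ⟨x, hx⟩ : ∃ x, Cohom.hhMap k (ClSub.toSubscheme D) 0 x ≠ 0 := by
    refine ⟨(ProjCoh.H0top (Coh.structureModule X)).symm (1 : Γ(X, ⊤)), fun h => ?_⟩
    have h' := congrArg (ProjCoh.H0top (ClSub.quotMod D)) h
    rw [Cohom.hhMap_apply, ProjCoh.H0top_map, AddEquiv.apply_symm_apply, map_zero] at h'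
    haveI : Nonempty (⊤ : D.subscheme.Opens) := ⟨⟨Classical.arbitrary _, trivial⟩⟩
    exact (one_ne_zero : (1 : Γ(D.subscheme, ⊤)) ≠ 0) ((map_one (D.subschemeι.app ⊤).hom).symm.trans h')
  have hsurj : Function.Surjective (Cohom.hhMap k (ClSub.toSubscheme D) 0) := by
    intro z
    have h1 : Module.finrank k (Coh.HH X (ClSub.quotMod D) 0) = 1 :=
      le_antisymm hD (Module.finrank_pos_iff_exists_ne_zero.2 ⟨_, hx⟩)
    obtain ⟨c, rfl⟩ := (finrank_eq_one_iff_of_nonzero' _ hx).1 h1 z
    exact ⟨c • x, map_smul _ _ _⟩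
  refine ⟨fun a b => sub_eq_zero.1 ?_⟩
  obtain ⟨y, hy⟩ := (Cohom.exact₁ (A := k) (shortExact_ideal D) 0 (a - b)).1 (hX.elim _ _)
  obtain ⟨w, rfl⟩ := hsurj y
  rw [← hy]
  exact (Cohom.exact₃ (A := k) (shortExact_ideal D) 0 _).2 ⟨w, rfl⟩

end GrothLib.ConnH0
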